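import Mathlib.Topology.Spectral.ConstructibleTopology
import Mathlib.Topology.Spectral.Hom
import Mathlib.Topology.Spectral.Basic
import Mathlib.Topology.Constructible
import Mathlib.Topology.Connected.Separation

/-! Basic facts on the constructible topology of a spectral space. -/

set_option autoImplicit false
universe u v
open Set Filter Topology TopologicalSpace

namespace Groth.Agent.SpecSp

variable {X : Type u} [tX : TopologicalSpace X]

theorem cons_le [PrespectralSpace X] : constructibleTopology X ≤ tX := by
  intro U hU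
  rw [PrespectralSpace.isTopologicalBasis.open_eq_sUnion' hU]
  refine (constructibleTopology X).isOpen_sUnion _ ?_
  rintro V ⟨⟨hVo, hVc⟩, -⟩
  exact hVc.isOpen_constructibleTopology_of_isOpen hVo

theorem isOpen_cons [PrespectralSpace X] {U : Set X} (hU : IsOpen U) :
    IsOpen[constructibleTopology X] U := cons_le U hU

theorem isClosed_cons [PrespectralSpace X] {C : Set X} (hC : IsClosed C) :
    IsClosed[constructibleTopology X] C :=
  @IsClosed.mk X (constructibleTopology X) C (isOpen_cons hC.isOpen_compl)

theorem isClopen_cons [PrespectralSpace X] {U : Set X} (ho : IsOpen U) (hc : IsCompact U) :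
    @IsClopen X (constructibleTopology X) U :=
  ⟨@IsClosed.mk X (constructibleTopology X) U
    ((show IsCompact Uᶜᶜ by rwa [compl_compl]).isOpen_constructibleTopology_of_isClosed
      ho.isClosed_compl), hc.isOpen_constructibleTopology_of_isOpen ho⟩

variable [SpectralSpace X]

theorem compactSpace_cons : @CompactSpace X (constructibleTopology X) :=
  @Function.Surjective.compactSpace (WithConstructibleTopology X) X _ (constructibleTopology X) _
    (WithTopology.continuous_ofTopology _) _ (fun x => ⟨WithTopology.toTopology _ x, rfl⟩)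

theorem isCompact_cons {E : Set X} (hE : IsClosed[constructibleTopology X] E) :
    @IsCompact X (constructibleTopology X) E :=
  @IsClosed.isCompact X (constructibleTopology X) _ compactSpace_cons hE

theorem isCompact_of_isClosed_cons {E : Set X} (hE : IsClosed[constructibleTopology X] E) :
    IsCompact E := by
  have h := @IsCompact.image X X (constructibleTopology X) tX E id (isCompact_cons hE)
    (continuous_id_of_le cons_le)
  simpa using h

theorem exists_isOpen_isCompact_separating {x y : X} (h : x ≠ y) :
    ∃ U : Set X, IsOpen U ∧ IsCompact U ∧ ((x ∈ U ∧ y ∉ U) ∨ (y ∈ U ∧ x ∉ U)) := by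
  have : ¬ Inseparable x y := fun hh => h hh.eq
  rw [inseparable_iff_forall_isOpen] at this
  push Not at this
  obtain ⟨V, hV, hV'⟩ := this
  rcases hV' with ⟨hx, hy⟩ | ⟨hx, hy⟩
  · obtain ⟨U, ⟨hUo, hUc⟩, hxU, hUV⟩ :=
      PrespectralSpace.isTopologicalBasis.exists_subset_of_mem_open hx hV
    exact ⟨U, hUo, hUc, Or.inl ⟨hxU, fun h => hy (hUV h)⟩⟩
  · obtain ⟨U, ⟨hUo, hUc⟩, hyU, hUV⟩ :=
      PrespectralSpace.isTopologicalBasis.exists_subset_of_mem_open hy hV
    exact ⟨U, hUo, hUc, Or.inr ⟨hyU, fun h => hx (hUV h)⟩⟩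

theorem totallySeparated_cons : @TotallySeparatedSpace X (constructibleTopology X) := by
  refine (@totallySeparatedSpace_iff_exists_isClopen X (constructibleTopology X)).2 fun x y hxy => ?_
  obtain ⟨U, hUo, hUc, h | h⟩ := exists_isOpen_isCompact_separating hxy
  · exact ⟨U, isClopen_cons hUo hUc, h.1, h.2⟩
  · exact ⟨Uᶜ, @IsClopen.compl X (constructibleTopology X) _ (isClopen_cons hUo hUc), h.2, fun h' => h' h.1⟩

theorem t2_cons : @T2Space X (constructibleTopology X) :=
  @TotallySeparatedSpace.t2Space X (constructibleTopology X) totallySeparated_cons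

theorem isClosed_singleton_cons (x : X) : IsClosed[constructibleTopology X] ({x} : Set X) :=
  @isClosed_singleton X (constructibleTopology X) (@T2Space.t1Space X (constructibleTopology X) t2_cons) x

/-- A directed family of nonempty constructibly closed sets has a common point. -/
theorem nonempty_iInter_of_isClosed_cons {ι : Type v} [Nonempty ι] (C : ι → Set X)
    (hd : Directed (· ⊇ ·) C) (hne : ∀ i, (C i).Nonempty)
    (hcl : ∀ i, IsClosed[constructibleTopology X] (C i)) : (⋂ i, C i).Nonempty :=
  @IsCompact.nonempty_iInter_of_directed_nonempty_isCompact_isClosed X (constructibleTopology X) ι _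
    C hd hne (fun i => isCompact_cons (hcl i)) hcl

omit [SpectralSpace X] in
/-- The compact open neighbourhoods of a point, ordered by reverse inclusion. -/
theorem directed_compactOpen_nhds [QuasiSeparatedSpace X] (x : X) :
    Directed (· ⊇ ·) fun U : {U : Set X // IsOpen U ∧ IsCompact U ∧ x ∈ U} => U.1 := fun U V =>
  ⟨⟨U.1 ∩ V.1, U.2.1.inter V.2.1, U.2.2.1.inter_of_isOpen V.2.2.1 U.2.1 V.2.1, U.2.2.2, V.2.2.2⟩,
    inter_subset_left, inter_subset_right⟩

instance nonempty_compactOpen_nhds (x : X) :
    Nonempty {U : Set X // IsOpen U ∧ IsCompact U ∧ x ∈ U} :=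
  ⟨⟨univ, isOpen_univ, isCompact_univ, mem_univ x⟩⟩

theorem specializes_of_forall_compactOpen {e x : X}
    (h : ∀ U : Set X, IsOpen U → IsCompact U → x ∈ U → e ∈ U) : e ⤳ x := by
  rw [specializes_iff_forall_open]
  intro V hV hxV
  obtain ⟨U, ⟨hUo, hUc⟩, hxU, hUV⟩ :=
    PrespectralSpace.isTopologicalBasis.exists_subset_of_mem_open hxV hV
  exact hUV (h U hUo hUc hxU)

theorem exists_specializes_of_mem_closure {E : Set X} (hE : IsClosed[constructibleTopology X] E)
    {x : X} (hx : x ∈ closure E) : ∃ e ∈ E, e ⤳ x := by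
  obtain ⟨e, he⟩ := nonempty_iInter_of_isClosed_cons
    (fun U : {U : Set X // IsOpen U ∧ IsCompact U ∧ x ∈ U} => U.1 ∩ E)
    (fun U V => by
      obtain ⟨W, h1, h2⟩ := directed_compactOpen_nhds x U V
      exact ⟨W, inter_subset_inter_left E h1, inter_subset_inter_left E h2⟩)
    (fun U => mem_closure_iff.1 hx U.1 U.2.1 U.2.2.2)
    (fun U => @IsClosed.inter X _ _ (constructibleTopology X) (isClopen_cons U.2.1 U.2.2.1).1 hE)
  simp only [mem_iInter, mem_inter_iff] at he
  exact ⟨e, (he ⟨univ, isOpen_univ, isCompact_univ, mem_univ x⟩).2,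
    specializes_of_forall_compactOpen fun U ho hc hxU => (he ⟨U, ho, hc, hxU⟩).1⟩

theorem isClosed_of_stableUnderSpecialization {E : Set X}
    (hE : IsClosed[constructibleTopology X] E) (hs : StableUnderSpecialization E) : IsClosed E :=
  isClosed_of_closure_subset fun x hx => by
    obtain ⟨e, he, hex⟩ := exists_specializes_of_mem_closure hE hx
    exact hs hex he

theorem isOpen_of_stableUnderGeneralization {E : Set X}
    (hE : IsOpen[constructibleTopology X] E) (hs : StableUnderGeneralization E) : IsOpen E :=
  isClosed_compl_iff.1 (isClosed_of_stableUnderSpecialization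
    (@IsOpen.isClosed_compl X (constructibleTopology X) _ hE) hs.compl)

theorem exists_subset_of_directed {ι : Type v} [Nonempty ι] (C : ι → Set X)
    (hd : Directed (· ⊇ ·) C) (hcl : ∀ i, IsClosed[constructibleTopology X] (C i)) {V : Set X}
    (hV : IsOpen[constructibleTopology X] V) (h : (⋂ i, C i) ⊆ V) : ∃ i, C i ⊆ V := by
  by_contra hcon
  push Not at hcon
  obtain ⟨x, hx⟩ := nonempty_iInter_of_isClosed_cons (fun i => C i ∩ Vᶜ)
    (fun i j => by
      obtain ⟨k, h1, h2⟩ := hd i j
      exact ⟨k, inter_subset_inter_left _ h1, inter_subset_inter_left _ h2⟩)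
    (fun i => by
      obtain ⟨x, hx, hx'⟩ := not_subset.1 (hcon i)
      exact ⟨x, hx, hx'⟩)
    (fun i => @IsClosed.inter X _ _ (constructibleTopology X) (hcl i)
      (@IsOpen.isClosed_compl X (constructibleTopology X) _ hV))
  simp only [mem_iInter] at hx
  exact (hx (Classical.arbitrary ι)).2 (h (mem_iInter.2 fun i => (hx i).1))

theorem isClopen_cons_of_isConstructible {s : Set X} (hs : IsConstructible s) :
    @IsClopen X (constructibleTopology X) s := by
  induction hs using IsConstructible.empty_union_induction with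
  | open_retrocompact U hUo hUc => exact isClopen_cons hUo hUc.isCompact
  | union s hs t ht h1 h2 => exact @IsClopen.union X (constructibleTopology X) _ _ h1 h2
  | compl s hs h => exact @IsClopen.compl X (constructibleTopology X) _ h

/-- Basic constructibly open sets. -/
theorem exists_basic_of_isOpen_cons {s : Set X} (hs : IsOpen[constructibleTopology X] s) {x : X}
    (hx : x ∈ s) : ∃ U V : Set X, IsOpen U ∧ IsCompact U ∧ IsOpen V ∧ IsCompact V ∧
      x ∈ U \ V ∧ U \ V ⊆ s := by
  have hs' : TopologicalSpace.GenerateOpen (constructibleTopologySubbasis X) s := hs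
  induction hs' generalizing x with
  | basic t ht =>
    rcases ht with ⟨ho, hc⟩ | ⟨hcl, hc⟩
    · exact ⟨t, ∅, ho, hc, isOpen_empty, isCompact_empty, ⟨hx, id⟩, sdiff_subset⟩
    · exact ⟨univ, tᶜ, isOpen_univ, isCompact_univ, hcl.isOpen_compl, hc, ⟨mem_univ x, fun h => h hx⟩,
        fun y hy => not_not.1 hy.2⟩
  | univ =>
    exact ⟨univ, ∅, isOpen_univ, isCompact_univ, isOpen_empty, isCompact_empty, ⟨mem_univ x, id⟩,
      subset_univ _⟩
  | inter t t' ht ht' ih ih' =>
    obtain ⟨U, V, h1, h2, h3, h4, h5, h6⟩ := ih ht hx.1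
    obtain ⟨U', V', h1', h2', h3', h4', h5', h6'⟩ := ih' ht' hx.2
    exact ⟨U ∩ U', V ∪ V', h1.inter h1', h2.inter_of_isOpen h2' h1 h1', h3.union h3', h4.union h4',
      ⟨⟨h5.1, h5'.1⟩, fun h => h.elim h5.2 h5'.2⟩,
      fun y hy => ⟨h6 ⟨hy.1.1, fun h => hy.2 (Or.inl h)⟩, h6' ⟨hy.1.2, fun h => hy.2 (Or.inr h)⟩⟩⟩
  | sUnion S hS ih =>
    obtain ⟨t, htS, hxt⟩ := hx
    obtain ⟨U, V, h1, h2, h3, h4, h5, h6⟩ := ih t htS (hS t htS) hxt
    exact ⟨U, V, h1, h2, h3, h4, h5, fun y hy => ⟨t, htS, h6 hy⟩⟩

theorem isConstructible_of_isClopen_cons {s : Set X}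
    (hs : @IsClopen X (constructibleTopology X) s) : IsConstructible s := by
  choose U V hUo hUc hVo hVc hmem hsub using fun x : s => exists_basic_of_isOpen_cons hs.2 x.2
  obtain ⟨t, ht⟩ := @IsCompact.elim_finite_subcover X (constructibleTopology X) s _ (isCompact_cons hs.1)
    (fun x : s => U x \ V x)
    (fun x => @IsOpen.sdiff X _ _ (constructibleTopology X) (isClopen_cons (hUo x) (hUc x)).2
      (isClopen_cons (hVo x) (hVc x)).1)
    (fun x hx => mem_iUnion.2 ⟨⟨x, hx⟩, hmem ⟨x, hx⟩⟩)
  have e : s = ⋃ x ∈ (↑t : Set s), U x \ V x :=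
    Subset.antisymm ht (iUnion₂_subset fun x _ => hsub x)
  rw [e]
  exact IsConstructible.biUnion t.finite_toSet fun x _ =>
    ((hUc x).isConstructible (hUo x)).sdiff ((hVc x).isConstructible (hVo x))

section Maps

variable {Y : Type v} [TopologicalSpace Y] [SpectralSpace Y] {f : X → Y}

theorem continuous_cons_of_isSpectralMap (hf : IsSpectralMap f) :
    @Continuous X Y (constructibleTopology X) (constructibleTopology Y) f := by
  refine (@continuous_generateFrom_iff X Y f (constructibleTopology X) (constructibleTopologySubbasis Y)).2 ?_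
  rintro s (⟨ho, hc⟩ | ⟨hcl, hc⟩)
  · exact (isClopen_cons (ho.preimage hf.continuous) (hc.preimage_of_isOpen hf ho)).2
  · have := (isClopen_cons (hcl.isOpen_compl.preimage hf.continuous)
      (hc.preimage_of_isOpen hf hcl.isOpen_compl)).1
    simpa using this.isOpen_compl

theorem isSpectralMap_of_continuous_cons (hc : Continuous f)
    (h : @Continuous X Y (constructibleTopology X) (constructibleTopology Y) f) : IsSpectralMap f :=
  ⟨hc, fun _ ho hcpt => isCompact_of_isClosed_cons
    (@IsClosed.preimage X Y (constructibleTopology X) (constructibleTopology Y) f h _ (isClopen_cons ho hcpt).1)⟩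

theorem isClosed_cons_image (hf : IsSpectralMap f) {E : Set X}
    (hE : IsClosed[constructibleTopology X] E) : IsClosed[constructibleTopology Y] (f '' E) :=
  @IsCompact.isClosed Y (constructibleTopology Y) t2_cons _
    (@IsCompact.image X Y (constructibleTopology X) (constructibleTopology Y) E f (isCompact_cons hE)
      (continuous_cons_of_isSpectralMap hf))

theorem isClosed_cons_preimage (hf : IsSpectralMap f) {E : Set Y}
    (hE : IsClosed[constructibleTopology Y] E) : IsClosed[constructibleTopology X] (f ⁻¹' E) :=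
  @IsClosed.preimage X Y (constructibleTopology X) (constructibleTopology Y) f
    (continuous_cons_of_isSpectralMap hf) _ hE

end Maps

/-- A constructibly closed subspace of a spectral space is spectral. -/
theorem spectralSpace_of_isClosed_cons {E : Set X} (hE : IsClosed[constructibleTopology X] E) :
    SpectralSpace E := by
  have hcompact : ∀ U : Set X, IsOpen U → IsCompact U → IsCompact (Subtype.val ⁻¹' U : Set E) :=
    fun U ho hc => by
      rw [IsInducing.subtypeVal.isCompact_iff, image_preimage_eq_inter_range, Subtype.range_coe]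
      exact isCompact_of_isClosed_cons
        (@IsClosed.inter X _ _ (constructibleTopology X) (isClopen_cons ho hc).1 hE)
  let b : {U : Set X // IsOpen U ∧ IsCompact U} → Set E := fun U => Subtype.val ⁻¹' U.1
  have hb : IsTopologicalBasis (range b) := by
    have h := (PrespectralSpace.isTopologicalBasis (X := X)).isInducing (IsInducing.subtypeVal (t := E))
    convert h using 1
    ext s
    simp [b]
  have : CompactSpace E := isCompact_iff_compactSpace.1 (isCompact_of_isClosed_cons hE)
  have : PrespectralSpace E := .of_isTopologicalBasis' hb fun U => hcompact U.1 U.2.1 U.2.2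
  have : QuasiSeparatedSpace E := .of_isTopologicalBasis hb fun U V =>
    hcompact (U.1 ∩ V.1) (U.2.1.inter V.2.1) (U.2.2.inter_of_isOpen V.2.2 U.2.1 V.2.1)
  have : QuasiSober E := by
    refine ⟨fun {Z} hZirr hZcl => ?_⟩
    obtain ⟨C, hC, rfl⟩ := isClosed_induced_iff.1 hZcl
    have hirr := hZirr.image Subtype.val continuous_subtype_val.continuousOn
    obtain ⟨η, hη⟩ := QuasiSober.sober hirr.closure isClosed_closure
    have hES : IsClosed[constructibleTopology X] (C ∩ E) :=
      @IsClosed.inter X _ _ (constructibleTopology X) (isClosed_cons hC) hE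
    have himg : Subtype.val '' (Subtype.val ⁻¹' C : Set E) = C ∩ E := by
      rw [image_preimage_eq_inter_range, Subtype.range_coe]
    rw [himg] at hη
    obtain ⟨e, he, hspec⟩ := exists_specializes_of_mem_closure hES hη.mem
    obtain rfl : e = η := (hspec.antisymm (hη.specializes (subset_closure he))).eq
    refine ⟨⟨e, he.2⟩, ?_⟩
    refine isGenericPoint_iff_specializes.2 fun y => ⟨fun h => ?_, fun h => ?_⟩
    · exact h.mem_closed (hC.preimage continuous_subtype_val) he.1
    · exact (subtype_specializes_iff _ _).2 (hη.specializes (subset_closure ⟨h, y.2⟩))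
  exact { }

end Groth.Agent.SpecSp
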