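import Groth.Agent.SpecSp.Criterion
import Mathlib.Topology.Category.TopCat.Limits.Cofiltered

/-! Cofiltered limits of spectral spaces with spectral transition maps. -/

set_option autoImplicit false
universe u
open Set Filter Topology TopologicalSpace CategoryTheory Limits

namespace Groth.Agent.SpecSp

variable {J : Type u} [SmallCategory J] (F : J ⥤ TopCat.{u})

/-- The product of the terms of a diagram, with their constructible topologies. -/
abbrev ConsProd : Type u := ∀ j, WithConstructibleTopology (F.obj j)

/-- Compatible families inside given subsets. -/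
def sectionsIn (Z : ∀ j, Set (F.obj j)) : Set (ConsProd F) :=
  (⋂ j, (fun u : ConsProd F => u j) ⁻¹' (WithTopology.ofTopology ⁻¹' Z j)) ∩
    ⋂ a : Σ i j : J, (i ⟶ j),
      {u : ConsProd F | WithTopology.toTopology _ (F.map a.2.2 (u a.1).ofTopology) = u a.2.1}

variable {F}

theorem mem_sectionsIn {Z : ∀ j, Set (F.obj j)} {u : ConsProd F} :
    u ∈ sectionsIn F Z ↔ (∀ j, (u j).ofTopology ∈ Z j) ∧
      ∀ (i j : J) (a : i ⟶ j), F.map a (u i).ofTopology = (u j).ofTopology := by
  simp only [sectionsIn, mem_inter_iff, mem_iInter, mem_preimage, Sigma.forall]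
  refine and_congr Iff.rfl ⟨fun h i j a => congrArg WithTopology.ofTopology (h i j a),
    fun h i j a => ?_⟩
  rw [mem_setOf_eq, h i j a]

variable (hF : ∀ j, SpectralSpace (F.obj j))
  (hFm : ∀ {i j : J} (a : i ⟶ j), IsSpectralMap (F.map a : F.obj i → F.obj j))
include hF

theorem t2_withCons (j : J) : T2Space (WithConstructibleTopology (F.obj j)) := by
  have := hF j
  exact @T2Space.of_injective_continuous _ _ _ (constructibleTopology (F.obj j)) t2_cons _
    (WithTopology.ofTopology_injective _) (WithTopology.continuous_ofTopology _)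

include hFm

theorem isClosed_sectionsIn {Z : ∀ j, Set (F.obj j)}
    (hZ : ∀ j, IsClosed[constructibleTopology (F.obj j)] (Z j)) : IsClosed (sectionsIn F Z) := by
  refine (isClosed_iInter fun j => ?_).inter (isClosed_iInter fun a => ?_)
  · exact IsClosed.preimage (continuous_apply j)
      (@IsClosed.preimage _ _ _ (constructibleTopology (F.obj j)) _
        (WithTopology.continuous_ofTopology _) _ (hZ j))
  · have := t2_withCons hF a.2.1
    have hi := hF a.1
    have hj := hF a.2.1
    refine isClosed_eq ?_ (continuous_apply _)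
    have h1 := @Continuous.comp _ _ _ _ (constructibleTopology (F.obj a.1))
      (constructibleTopology (F.obj a.2.1)) _ _ (continuous_cons_of_isSpectralMap (hFm a.2.2))
      (WithTopology.continuous_ofTopology _)
    have h2 := @Continuous.comp _ _ _ _ (constructibleTopology (F.obj a.2.1)) _ _ _
      (WithTopology.continuous_toTopology _) h1
    exact h2.comp (continuous_apply _)

theorem compactSpace_consProd : CompactSpace (ConsProd F) :=
  have := hF
  inferInstance

theorem nonempty_sectionsIn [IsCofiltered J] {Z : ∀ j, Set (F.obj j)} (hne : ∀ j, (Z j).Nonempty)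
    (hZ : ∀ j, IsClosed[constructibleTopology (F.obj j)] (Z j))
    (hm : ∀ {i j : J} (a : i ⟶ j), MapsTo (F.map a) (Z i) (Z j)) : (sectionsIn F Z).Nonempty := by
  classical
  have := compactSpace_consProd hF hFm
  let A := Σ i j : J, (i ⟶ j)
  let P : Set (ConsProd F) := ⋂ j, (fun u : ConsProd F => u j) ⁻¹' (WithTopology.ofTopology ⁻¹' Z j)
  have hP : IsClosed P := isClosed_iInter fun j => IsClosed.preimage (continuous_apply j)
    (@IsClosed.preimage _ _ _ (constructibleTopology (F.obj j)) _
      (WithTopology.continuous_ofTopology _) _ (hZ j))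
  refine hP.isCompact.inter_iInter_nonempty _ (fun a : A => ?_) fun H => ?_
  · have := t2_withCons hF a.2.1
    have hi := hF a.1
    have hj := hF a.2.1
    refine isClosed_eq ?_ (continuous_apply _)
    have h1 := @Continuous.comp _ _ _ _ (constructibleTopology (F.obj a.1))
      (constructibleTopology (F.obj a.2.1)) _ _ (continuous_cons_of_isSpectralMap (hFm a.2.2))
      (WithTopology.continuous_ofTopology _)
    have h2 := @Continuous.comp _ _ _ _ (constructibleTopology (F.obj a.2.1)) _ _ _
      (WithTopology.continuous_toTopology _) h1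
    exact h2.comp (continuous_apply _)
  · haveI : DecidableEq J := Classical.decEq J
    let G : Finset J := H.image (fun a => a.1) ∪ H.image (fun a => a.2.1)
    obtain ⟨k, T, hT⟩ := IsCofiltered.inf_exists G (H.attach.image fun a : {a // a ∈ H} =>
      (⟨a.1.1, a.1.2.1, Finset.mem_union_left _ (Finset.mem_image_of_mem _ a.2),
        Finset.mem_union_right _ (Finset.mem_image_of_mem _ a.2), a.1.2.2⟩ :
          Σ' (X Y : J) (_ : X ∈ G) (_ : Y ∈ G), X ⟶ Y))
    choose z hz using hne
    refine ⟨fun j => WithTopology.toTopology _ (if h : j ∈ G then F.map (T h) (z k) else z j), ?_, ?_⟩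
    · refine mem_iInter.2 fun j => ?_
      change (if h : j ∈ G then F.map (T h) (z k) else z j) ∈ Z j
      split
      · exact hm _ (hz k)
      · exact hz j
    · refine mem_iInter₂.2 fun a ha => ?_
      have h1 : a.1 ∈ G := Finset.mem_union_left _ (Finset.mem_image_of_mem _ ha)
      have h2 : a.2.1 ∈ G := Finset.mem_union_right _ (Finset.mem_image_of_mem _ ha)
      simp only [mem_setOf_eq, dif_pos h1, dif_pos h2]
      rw [← hT h1 h2 (f := a.2.2) (Finset.mem_image.2 ⟨⟨a, ha⟩, Finset.mem_attach _ _, rfl⟩),
        F.map_comp]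
      rfl

variable {c : Cone F} (hc : IsLimit c)

omit hF hFm in
/-- The map of the limit into the product. -/
def toConsProd (c : Cone F) (x : c.pt) : ConsProd F := fun j => WithTopology.toTopology _ (c.π.app j x)

omit hF hFm in
include hc in
theorem toConsProd_injective : Function.Injective (toConsProd c) := by
  intro x y h
  have e : (TopCat.ofHom ⟨fun _ : PUnit.{u+1} => x, continuous_const⟩ : TopCat.of PUnit.{u+1} ⟶ c.pt) =
      TopCat.ofHom ⟨fun _ => y, continuous_const⟩ :=
    hc.hom_ext fun j => TopCat.ext fun _ => congrArg WithTopology.ofTopology (congrFun h j)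
  exact ConcreteCategory.congr_hom e PUnit.unit

omit hF hFm in
include hc in
theorem exists_point_of_mem_sectionsIn {Z : ∀ j, Set (F.obj j)} {u : ConsProd F}
    (hu : u ∈ sectionsIn F Z) : ∃ x : c.pt, toConsProd c x = u := by
  let s : Cone F :=
    { pt := TopCat.of PUnit.{u+1}
      π :=
        { app := fun j => TopCat.ofHom ⟨fun _ => (u j).ofTopology, continuous_const⟩
          naturality := fun i j a => TopCat.ext fun _ => ((mem_sectionsIn.1 hu).2 i j a).symm } }
  refine ⟨hc.lift s PUnit.unit, funext fun j => ?_⟩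
  have h : c.π.app j (hc.lift s PUnit.unit) = (u j).ofTopology :=
    ConcreteCategory.congr_hom (hc.fac s j) PUnit.unit
  change WithTopology.toTopology _ (c.π.app j (hc.lift s PUnit.unit)) = u j
  rw [h]

omit hF hFm in
include hc in
theorem image_toConsProd (Z : ∀ j, Set (F.obj j)) :
    toConsProd c '' {x | ∀ j, c.π.app j x ∈ Z j} = sectionsIn F Z := by
  refine Subset.antisymm ?_ fun u hu => ?_
  · rintro _ ⟨x, hx, rfl⟩
    exact mem_sectionsIn.2 ⟨hx, fun i j a => ConcreteCategory.congr_hom (c.w a) x⟩
  · obtain ⟨x, rfl⟩ := exists_point_of_mem_sectionsIn hc hu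
    exact ⟨x, (mem_sectionsIn.1 hu).1, rfl⟩

omit hF hFm in
/-- The finer topology on the limit, induced by the constructible topologies. -/
@[instance_reducible]
def limCons (c : Cone F) : TopologicalSpace c.pt := TopologicalSpace.induced (toConsProd c) inferInstance

omit hFm in
include hc in
theorem limCons_le : limCons c ≤ (inferInstance : TopologicalSpace c.pt) := by
  rw [show (inferInstance : TopologicalSpace c.pt) = _ from TopCat.induced_of_isLimit c hc]
  refine le_iInf fun j => ?_
  rw [← continuous_iff_le_induced]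
  have := hF j
  have h1 : @Continuous c.pt (WithConstructibleTopology (F.obj j)) (limCons c) _
      (fun x => toConsProd c x j) :=
    @Continuous.comp c.pt (ConsProd F) (WithConstructibleTopology (F.obj j)) (limCons c) _ _
      (toConsProd c) (fun u => u j) (continuous_apply j) continuous_induced_dom
  have h2 : Continuous (fun y : WithConstructibleTopology (F.obj j) => y.ofTopology) :=
    continuous_le_rng cons_le (WithTopology.continuous_ofTopology _)
  exact @Continuous.comp c.pt (WithConstructibleTopology (F.obj j)) (F.obj j) (limCons c) _ _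
    (fun x => toConsProd c x j) (fun y => y.ofTopology) h2 h1

include hc

theorem isCompact_limCons {Z : ∀ j, Set (F.obj j)}
    (hZ : ∀ j, IsClosed[constructibleTopology (F.obj j)] (Z j)) :
    @IsCompact c.pt (limCons c) {x | ∀ j, c.π.app j x ∈ Z j} := by
  have := compactSpace_consProd hF hFm
  refine (@IsInducing.isCompact_iff c.pt (ConsProd F) (limCons c) _ _ (toConsProd c)
    (@IsInducing.mk c.pt (ConsProd F) (limCons c) _ (toConsProd c) rfl)).2 ?_
  rw [image_toConsProd hc]
  exact (isClosed_sectionsIn hF hFm hZ).isCompact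

theorem isCompact_setOf_forall {Z : ∀ j, Set (F.obj j)}
    (hZ : ∀ j, IsClosed[constructibleTopology (F.obj j)] (Z j)) :
    IsCompact {x : c.pt | ∀ j, c.π.app j x ∈ Z j} := by
  have h := @IsCompact.image c.pt c.pt (limCons c) _ _ id (isCompact_limCons hF hFm hc hZ)
    (continuous_id_of_le (limCons_le hF hc))
  simpa using h

theorem compactSpace_limCons : @CompactSpace c.pt (limCons c) := by
  have h := isCompact_limCons hF hFm hc (Z := fun _ => univ)
    (fun j => @isClosed_univ _ (constructibleTopology (F.obj j)))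
  simp only [mem_univ, implies_true, setOf_true] at h
  exact @CompactSpace.mk c.pt (limCons c) h

theorem compactSpace_limit : CompactSpace c.pt := by
  have h := isCompact_setOf_forall hF hFm hc (Z := fun _ => univ)
    (fun j => @isClosed_univ _ (constructibleTopology (F.obj j)))
  simp only [mem_univ, implies_true, setOf_true] at h
  exact ⟨h⟩

omit hF hFm hc in
theorem continuous_limCons_π (j : J) :
    @Continuous c.pt (F.obj j) (limCons c) (constructibleTopology (F.obj j)) (c.π.app j) :=
  @Continuous.comp c.pt (ConsProd F) _ (limCons c) _ (constructibleTopology (F.obj j))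
    _ (fun u => (u j).ofTopology)
    (@Continuous.comp _ _ _ _ _ (constructibleTopology (F.obj j)) _ _
      (WithTopology.continuous_ofTopology _) (continuous_apply j))
    continuous_induced_dom

omit hF hFm hc in
theorem isClosed_limCons_preimage {j : J} {C : Set (F.obj j)}
    (hC : IsClosed[constructibleTopology (F.obj j)] C) : IsClosed[limCons c] (c.π.app j ⁻¹' C) :=
  @IsClosed.preimage c.pt (F.obj j) (limCons c) (constructibleTopology (F.obj j)) _ (continuous_limCons_π j) C hC

variable [IsCofiltered J]

theorem isTopologicalBasis_limit :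
    IsTopologicalBasis {W : Set c.pt | ∃ (j : J) (U : Set (F.obj j)),
      U ∈ {U | IsOpen U ∧ IsCompact U} ∧ W = c.π.app j ⁻¹' U} :=
  TopCat.isTopologicalBasis_cofiltered_limit.{u, u} F c hc (fun j => {U | IsOpen U ∧ IsCompact U})
    (fun j => (hF j).toPrespectralSpace.isTopologicalBasis)
    (fun j => ⟨isOpen_univ, (hF j).toCompactSpace.isCompact_univ⟩)
    (fun j U V hU hV => ⟨hU.1.inter hV.1,
      have := hF j; hU.2.inter_of_isOpen hV.2 hU.1 hV.1⟩)
    (fun i j a U hU => ⟨hU.1.preimage (hFm a).continuous, hU.2.preimage_of_isOpen (hFm a) hU.1⟩)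

theorem spectralSpace_limit : SpectralSpace c.pt := by
  have : T0Space c.pt := by
    refine ⟨fun x y h => toConsProd_injective hc (funext fun j => ?_)⟩
    have := hF j
    exact congrArg (WithTopology.toTopology _) (h.map (c.π.app j).hom.continuous).eq
  refine spectralSpace_of_compact_finer (limCons c) (limCons_le hF hc) (compactSpace_limCons hF hFm hc)
    (isTopologicalBasis_limit hF hFm hc) ?_
  rintro _ ⟨j, U, ⟨hUo, hUc⟩, rfl⟩
  have := hF j
  exact isClosed_limCons_preimage (isClopen_cons hUo hUc).1

theorem isCompact_preimage_π {j : J} {C : Set (F.obj j)}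
    (hC : IsClosed[constructibleTopology (F.obj j)] C) : IsCompact (c.π.app j ⁻¹' C) := by
  have h := @IsCompact.image c.pt c.pt (limCons c) _ _ id
    (@IsClosed.isCompact c.pt (limCons c) _ (compactSpace_limCons hF hFm hc) (isClosed_limCons_preimage hC))
    (continuous_id_of_le (limCons_le hF hc))
  simpa using h

theorem isSpectralMap_π (j : J) : IsSpectralMap (c.π.app j : c.pt → F.obj j) :=
  have := hF j
  ⟨(c.π.app j).hom.continuous, fun _ ho hcpt => isCompact_preimage_π hF hFm hc (isClopen_cons ho hcpt).1⟩

theorem exists_mem_of_nonempty {Z : ∀ j, Set (F.obj j)} (hne : ∀ j, (Z j).Nonempty)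
    (hZ : ∀ j, IsClosed[constructibleTopology (F.obj j)] (Z j))
    (hm : ∀ {i j : J} (a : i ⟶ j), MapsTo (F.map a) (Z i) (Z j)) :
    ∃ x : c.pt, ∀ j, c.π.app j x ∈ Z j := by
  obtain ⟨u, hu⟩ := nonempty_sectionsIn hF hFm hne hZ @hm
  rw [← image_toConsProd hc] at hu
  obtain ⟨x, hx, -⟩ := hu
  exact ⟨x, hx⟩

/-- If a constructibly closed set has empty preimage in the limit, this happens at a finite stage. -/
theorem exists_preimage_eq_empty {i : J} {C : Set (F.obj i)}
    (hC : IsClosed[constructibleTopology (F.obj i)] C) (h : c.π.app i ⁻¹' C = ∅) :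
    ∃ (j : J) (a : j ⟶ i), F.map a ⁻¹' C = ∅ := by
  classical
  let Z : ∀ k, Set (F.obj k) := fun k => ⋂ a : k ⟶ i, F.map a ⁻¹' C
  have hZ : ∀ k, IsClosed[constructibleTopology (F.obj k)] (Z k) := fun k =>
    @isClosed_iInter _ _ (constructibleTopology (F.obj k)) _ fun a =>
      have := hF i; have := hF k; isClosed_cons_preimage (hFm a) hC
  have hm : ∀ {k l : J} (b : k ⟶ l), MapsTo (F.map b) (Z k) (Z l) := fun b x hx => by
    simp only [Z, mem_iInter, mem_preimage] at hx ⊢
    intro a
    rw [← ConcreteCategory.comp_apply, ← F.map_comp]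
    exact hx _
  obtain ⟨k, hk⟩ : ∃ k, Z k = ∅ := by
    by_contra hcon
    push Not at hcon
    obtain ⟨x, hx⟩ := exists_mem_of_nonempty hF hFm hc hcon hZ @hm
    have := mem_iInter.1 (hx i) (𝟙 i)
    rw [F.map_id] at this
    exact h.le this
  have hFk := hF k
  obtain ⟨t, ht⟩ := @IsCompact.elim_finite_subfamily_closed (F.obj k) (constructibleTopology (F.obj k)) univ (k ⟶ i)
    (@isCompact_univ _ (constructibleTopology (F.obj k)) compactSpace_cons)
    (fun a : k ⟶ i => F.map a ⁻¹' C)
    (fun a => have := hF i; isClosed_cons_preimage (hFm a) hC)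
    (by rw [univ_inter]; exact hk)
  obtain ⟨l, T, hT⟩ := IsCofiltered.inf_exists ({k, i} : Finset J) (t.image fun a =>
    (⟨k, i, by simp, by simp, a⟩ : Σ' (X Y : J) (_ : X ∈ ({k, i} : Finset J)) (_ : Y ∈ ({k, i} : Finset J)), X ⟶ Y))
  refine ⟨l, T (X := i) (by simp), eq_empty_of_forall_notMem fun x hx => ?_⟩
  refine ht.le ⟨mem_univ (F.map (T (X := k) (by simp)) x), mem_iInter₂.2 fun a ha => ?_⟩
  rw [mem_preimage, ← ConcreteCategory.comp_apply, ← F.map_comp,
    hT (by simp) (by simp) (f := a) (Finset.mem_image_of_mem _ ha)]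
  exact hx

end Groth.Agent.SpecSp

namespace Groth.Agent.SpecSp

variable {J : Type u} [SmallCategory J] [IsCofiltered J] {F : J ⥤ TopCat.{u}}
  (hF : ∀ j, SpectralSpace (F.obj j))
  (hFm : ∀ {i j : J} (a : i ⟶ j), IsSpectralMap (F.map a : F.obj i → F.obj j))
  {c : Cone F} (hc : IsLimit c)
include hF hFm hc

theorem exists_eq_preimage_of_isOpen_isCompact (U : Set c.pt) (ho : IsOpen U) (hU : IsCompact U) :
    ∃ (i : J) (Ui : Set (F.obj i)), IsOpen Ui ∧ IsCompact Ui ∧ c.π.app i ⁻¹' Ui = U := by
  classical
  have hB := isTopologicalBasis_limit hF hFm hc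
  let b : (Σ j, {V : Set (F.obj j) // IsOpen V ∧ IsCompact V}) → Set c.pt := fun p => c.π.app p.1 ⁻¹' p.2.1
  have hb : IsTopologicalBasis (range b) := by
    convert hB using 1
    ext W
    constructor
    · rintro ⟨⟨j, V, hV⟩, rfl⟩
      exact ⟨j, V, hV, rfl⟩
    · rintro ⟨j, V, hV, rfl⟩
      exact ⟨⟨j, V, hV⟩, rfl⟩
  obtain ⟨s, hs, rfl⟩ := (isCompact_open_iff_eq_finite_iUnion_of_isTopologicalBasis b hb
    (fun p => (isSpectralMap_π hF hFm hc p.1).isCompact_preimage_of_isOpen p.2.2.1 p.2.2.2) U).1 ⟨hU, ho⟩
  obtain ⟨k, hk⟩ := IsCofiltered.inf_objs_exists (hs.toFinset.image fun p => p.1)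
  have φ : ∀ p ∈ s, k ⟶ p.1 := fun p hp =>
    (hk (Finset.mem_image_of_mem _ (hs.mem_toFinset.2 hp))).some
  have := hs.to_subtype
  refine ⟨k, ⋃ p : s, F.map (φ p.1 p.2) ⁻¹' p.1.2.1,
    isOpen_iUnion fun p => p.1.2.2.1.preimage (hFm _).continuous,
    isCompact_iUnion fun p => (hFm _).isCompact_preimage_of_isOpen p.1.2.2.1 p.1.2.2.2, ?_⟩
  ext x
  simp only [b, preimage_iUnion, mem_iUnion, mem_preimage, Subtype.exists]
  refine exists_congr fun p => exists_congr fun hp => ?_
  rw [← ConcreteCategory.comp_apply, c.w]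

theorem exists_eq_preimage_of_isConstructible {E : Set c.pt} (hE : Topology.IsConstructible E) :
    ∃ (i : J) (Ei : Set (F.obj i)), Topology.IsConstructible Ei ∧ c.π.app i ⁻¹' Ei = E := by
  induction hE using IsConstructible.empty_union_induction with
  | open_retrocompact U hUo hUc =>
    have := spectralSpace_limit hF hFm hc
    obtain ⟨i, V, hVo, hVc, hV⟩ := exists_eq_preimage_of_isOpen_isCompact hF hFm hc U hUo hUc.isCompact
    exact ⟨i, V, have := hF i; hVc.isConstructible hVo, hV⟩
  | union s hs t ht h1 h2 =>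
    obtain ⟨i, A, hA, rfl⟩ := h1
    obtain ⟨j, B, hB, rfl⟩ := h2
    have hk := hF (IsCofiltered.min i j)
    have pre : ∀ {k l : J} (a : k ⟶ l) {C : Set (F.obj l)}, Topology.IsConstructible C →
        Topology.IsConstructible (F.map a ⁻¹' C) := fun {k l} a {C} hC =>
      have := hF k; have := hF l
      isConstructible_of_isClopen_cons ⟨isClosed_cons_preimage (hFm a) (isClopen_cons_of_isConstructible hC).1,
        @IsOpen.preimage _ _ (constructibleTopology (F.obj k)) (constructibleTopology (F.obj l)) _
          (continuous_cons_of_isSpectralMap (hFm a)) _ (isClopen_cons_of_isConstructible hC).2⟩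
    refine ⟨_, _, (pre (IsCofiltered.minToLeft i j) hA).union (pre (IsCofiltered.minToRight i j) hB), ?_⟩
    ext x
    simp only [preimage_union, mem_union, mem_preimage]
    rw [← ConcreteCategory.comp_apply, c.w, ← ConcreteCategory.comp_apply, c.w]
  | compl s hs h =>
    obtain ⟨i, A, hA, rfl⟩ := h
    exact ⟨i, Aᶜ, hA.compl, preimage_compl⟩

end Groth.Agent.SpecSp
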