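import Groth.Agent.SpecSp.Limit
import Mathlib.Topology.Order

/-! Spectral spaces and powers of the Sierpiński space. -/

set_option autoImplicit false
universe u
open Set Filter Topology TopologicalSpace CategoryTheory Limits

namespace Groth.Agent.SpecSp

variable (I : Type u)

/-- Product of the discrete topologies on `Prop`. -/
@[instance_reducible]
def piDiscrete : TopologicalSpace (I → Prop) := @Pi.topologicalSpace I (fun _ => Prop) (fun _ => ⊥)

variable {I}

theorem piDiscrete_compact : @CompactSpace (I → Prop) (piDiscrete I) :=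
  @Pi.compactSpace I (fun _ => Prop) (fun _ => ⊥) (fun _ => @Finite.compactSpace Prop ⊥ _)

theorem piDiscrete_le : piDiscrete I ≤ (inferInstance : TopologicalSpace (I → Prop)) :=
  iInf_mono fun _ => induced_mono bot_le

/-- The basic open sets of `I → Prop`. -/
def cyl (F : Finset I) : Set (I → Prop) := {g | ∀ i ∈ F, g i}

theorem isOpen_cyl (F : Finset I) : IsOpen (cyl F) := by
  have : cyl F = ⋂ i ∈ F, (fun g : I → Prop => g i) ⁻¹' {True} := by ext g; simp [cyl]
  rw [this]
  exact isOpen_biInter_finset fun i _ => isOpen_singleton_true.preimage (continuous_apply i)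

theorem isClosed_cyl (F : Finset I) : IsClosed[piDiscrete I] (cyl F) := by
  have : cyl F = ⋂ i ∈ F, (fun g : I → Prop => g i) ⁻¹' {True} := by ext g; simp [cyl]
  rw [this]
  refine @isClosed_biInter (I → Prop) I (piDiscrete I) _ _ fun i _ => ?_
  exact @IsClosed.preimage (I → Prop) Prop (piDiscrete I) ⊥ _
    (@continuous_apply I (fun _ => Prop) (fun _ => ⊥) i) _ (@IsClosed.mk Prop ⊥ _ trivial)

theorem eq_univ_of_isOpen_of_false_mem {U : Set Prop} (hU : IsOpen U) (h : False ∈ U) : U = univ := by
  have hU' : TopologicalSpace.GenerateOpen {{True}} U := hU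
  induction hU' with
  | basic s hs =>
    rw [mem_singleton_iff] at hs
    subst hs
    simp at h
  | univ => rfl
  | inter s t hs ht ihs iht => rw [ihs hs h.1, iht ht h.2, inter_self]
  | sUnion S hS ih =>
    obtain ⟨s, hs, hFs⟩ := h
    exact eq_univ_of_subset (subset_sUnion_of_mem hs) (ih s hs (hS s hs) hFs)

theorem t0Space_prop : T0Space Prop := by
  refine (t0Space_iff_inseparable Prop).2 fun p q h => ?_
  exact propext (by simpa using h.mem_open_iff isOpen_singleton_true)

theorem isTopologicalBasis_cyl : IsTopologicalBasis (range (cyl (I := I))) := by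
  classical
  refine isTopologicalBasis_of_isOpen_of_nhds (by rintro _ ⟨F, rfl⟩; exact isOpen_cyl F) fun g O hg hO => ?_
  obtain ⟨F, U, hU, hsub⟩ := isOpen_pi_iff.1 hO g hg
  refine ⟨_, ⟨F.filter fun i => U i ≠ univ, rfl⟩, ?_, fun h hh => hsub fun i hi => ?_⟩
  · intro i hi
    obtain ⟨hiF, hne⟩ := Finset.mem_filter.1 hi
    by_contra hgi
    have := (hU i hiF).2
    rw [eq_false hgi] at this
    exact hne (eq_univ_of_isOpen_of_false_mem (hU i hiF).1 this)
  · by_cases hne : U i = univ
    · rw [hne]; exact mem_univ _
    · have hi' : h i := hh i (Finset.mem_filter.2 ⟨hi, hne⟩)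
      have hgi : g i := by
        by_contra hgi
        have := (hU i hi).2
        rw [eq_false hgi] at this
        exact hne (eq_univ_of_isOpen_of_false_mem (hU i hi).1 this)
      have := (hU i hi).2
      rw [eq_true hgi, ← eq_true hi'] at this
      exact this

instance spectralSpace_pi_prop : SpectralSpace (I → Prop) :=
  haveI := t0Space_prop
  spectralSpace_of_compact_finer (piDiscrete I) piDiscrete_le piDiscrete_compact isTopologicalBasis_cyl
    (by rintro _ ⟨F, rfl⟩; exact isClosed_cyl F)

variable {X : Type u} [TopologicalSpace X]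

/-- The membership map to a power of the Sierpiński space. -/
def memMap (B : Set (Set X)) (x : X) : B → Prop := fun U => x ∈ U.1

theorem isEmbedding_memMap [T0Space X] {B : Set (Set X)} (hB : IsTopologicalBasis B) :
    IsEmbedding (memMap B) := by
  have hc : Continuous (memMap B) := continuous_pi fun U => continuous_Prop.2 (hB.isOpen U.2)
  have hind : IsInducing (memMap B) := by
    refine ⟨le_antisymm hc.le_induced ?_⟩
    rw [hB.eq_generateFrom]
    refine le_generateFrom fun U hU => ?_
    exact ⟨(fun g : B → Prop => g ⟨U, hU⟩) ⁻¹' {True}, isOpen_singleton_true.preimage (continuous_apply _),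
      by ext x; simp [memMap]⟩
  exact ⟨hind, hind.injective⟩

theorem isSpectralMap_memMap [SpectralSpace X] :
    IsSpectralMap (memMap {U : Set X | IsOpen U ∧ IsCompact U}) := by
  have hB := PrespectralSpace.isTopologicalBasis (X := X)
  refine isSpectralMap_of_continuous_cons (isEmbedding_memMap hB).continuous ?_
  refine @continuous_generateFrom_iff _ _ _ (constructibleTopology X) _ |>.2 ?_
  have hkey : ∀ W : Set ({U : Set X | IsOpen U ∧ IsCompact U} → Prop), IsOpen W → IsCompact W →
      @IsClopen X (constructibleTopology X) (memMap _ ⁻¹' W) := fun W ho hc => by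
    obtain ⟨s, hs, rfl⟩ := (isCompact_open_iff_eq_finite_iUnion_of_isTopologicalBasis cyl
      isTopologicalBasis_cyl (fun F => isCompact_of_isClosed_cons
        ((isClosed_finer_iff_cons (piDiscrete _) piDiscrete_le piDiscrete_compact isTopologicalBasis_cyl
          (by rintro _ ⟨G, rfl⟩; exact isClosed_cyl G)
          (by
            rintro _ ⟨G, rfl⟩
            have h := @IsCompact.image _ _ (piDiscrete _) _ _ id
              (@IsClosed.isCompact _ (piDiscrete _) _ piDiscrete_compact (isClosed_cyl G))
              (continuous_id_of_le piDiscrete_le)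
            simpa using h)).1 (isClosed_cyl F))) W).1 ⟨hc, ho⟩
    rw [preimage_iUnion₂]
    refine @Set.Finite.isClopen_biUnion X (constructibleTopology X) _ _ _ hs fun F _ => ?_
    have : memMap _ ⁻¹' cyl F = ⋂ U ∈ F, U.1 := by ext x; simp [cyl, memMap]
    rw [this]
    exact @isClopen_biInter_finset X (constructibleTopology X) _ _ _ fun U _ => isClopen_cons U.2.1 U.2.2
  rintro s (⟨ho, hc⟩ | ⟨hcl, hc⟩)
  · exact (hkey s ho hc).2
  · have := (hkey sᶜ hcl.isOpen_compl hc).1
    rw [preimage_compl] at this
    exact (@isOpen_compl_iff X (memMap _ ⁻¹' s)ᶜ (constructibleTopology X)).2 this |> fun h => by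
      rwa [compl_compl] at h

theorem spectralSpace_iff_sierpinski (X : Type u) [TopologicalSpace X] :
    SpectralSpace X ↔ ∃ (I : Type u) (f : X → (I → Prop)),
      IsEmbedding f ∧ @IsClosed (I → Prop) (constructibleTopology (I → Prop)) (range f) := by
  constructor
  · intro _
    refine ⟨_, memMap {U : Set X | IsOpen U ∧ IsCompact U},
      isEmbedding_memMap PrespectralSpace.isTopologicalBasis, ?_⟩
    rw [← image_univ]
    exact isClosed_cons_image isSpectralMap_memMap (isClosed_cons isClosed_univ)
  · rintro ⟨I, f, hf, hcl⟩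
    have := spectralSpace_of_isClosed_cons hcl
    exact spectralSpace_of_homeomorph hf.toHomeomorph

/-- The directed system of finite traces of a spectral space. -/
def traceFunctor (X : Type u) [TopologicalSpace X] :
    (Finset {U : Set X | IsOpen U ∧ IsCompact U})ᵒᵖ ⥤ TopCat.{u} where
  obj j := TopCat.of (range fun (x : X) (U : j.unop) => x ∈ U.1.1)
  map {i j} h := TopCat.ofHom
    ⟨fun (g : range fun (x : X) (U : i.unop) => x ∈ U.1.1) =>
      (⟨fun U : j.unop => g.1 ⟨U.1, leOfHom h.unop U.2⟩, by
        obtain ⟨_, x, rfl⟩ := g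
        exact ⟨x, rfl⟩⟩ : range fun (x : X) (U : j.unop) => x ∈ U.1.1),
      continuous_induced_rng.2 (continuous_pi fun U : j.unop =>
        (continuous_apply (A := fun _ : i.unop => Prop) ⟨U.1, leOfHom h.unop U.2⟩).comp continuous_subtype_val)⟩

theorem exists_isLimit_finite_sober (X : Type u) [TopologicalSpace X] [SpectralSpace X] :
    ∃ (J : Type u) (_ : Preorder J) (_ : Nonempty J) (_ : IsDirected J (· ≤ ·)) (F : Jᵒᵖ ⥤ TopCat.{u})
      (c : Cone F), Nonempty (IsLimit c) ∧
        (∀ j : Jᵒᵖ, Finite (F.obj j) ∧ T0Space (F.obj j) ∧ QuasiSober (F.obj j)) ∧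
        Nonempty (c.pt ≅ TopCat.of X) := by
  classical
  let B : Set (Set X) := {U | IsOpen U ∧ IsCompact U}
  let F := traceFunctor X
  let c : Cone (traceFunctor X) :=
    { pt := TopCat.of X
      π :=
        { app := fun j => (show TopCat.of X ⟶ (traceFunctor X).obj j from TopCat.ofHom
            (⟨fun x => ⟨fun U : j.unop => x ∈ U.1.1, x, rfl⟩,
            (continuous_pi fun U : j.unop => continuous_Prop.2 U.1.2.1).subtype_mk _⟩ :
              C(X, range fun (x : X) (U : j.unop) => x ∈ U.1.1)))
          naturality := fun i j h => rfl } }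
  have hemb : IsEmbedding (memMap B) := isEmbedding_memMap PrespectralSpace.isTopologicalBasis
  have hcl : IsClosed[piDiscrete B] (range (memMap B)) :=
    (isClosed_finer_iff_cons (piDiscrete B) piDiscrete_le piDiscrete_compact isTopologicalBasis_cyl
      (by rintro _ ⟨G, rfl⟩; exact isClosed_cyl G)
      (by
        rintro _ ⟨G, rfl⟩
        have h := @IsCompact.image _ _ (piDiscrete B) _ _ id
          (@IsClosed.isCompact _ (piDiscrete B) _ piDiscrete_compact (isClosed_cyl G))
          (continuous_id_of_le piDiscrete_le)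
        simpa using h)).2
      (by rw [← image_univ]; exact isClosed_cons_image isSpectralMap_memMap (isClosed_cons isClosed_univ))
  refine ⟨Finset B, inferInstance, ⟨∅⟩, inferInstance, F, c, ⟨?_⟩, fun j => ?_, ⟨Iso.refl _⟩⟩
  · have key : ∀ (s : Cone F) (y : s.pt), ∃ x : X, ∀ U : B,
        memMap B x U = (s.π.app (Opposite.op {U}) y).1 ⟨U, Finset.mem_singleton_self U⟩ := by
      intro s y
      let g : B → Prop := fun U => (s.π.app (Opposite.op {U}) y).1 ⟨U, Finset.mem_singleton_self U⟩
      suffices g ∈ range (memMap B) by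
        obtain ⟨x, hx⟩ := this
        exact ⟨x, fun U => congrFun hx U⟩
      rw [← @IsClosed.closure_eq _ (piDiscrete B) _ hcl, @mem_closure_iff _ (piDiscrete B)]
      intro O hO hgO
      obtain ⟨G, W, hW, hsub⟩ := (@isOpen_pi_iff B (fun _ => Prop) (fun _ => ⊥) O).1 hO g hgO
      obtain ⟨x, hx⟩ := (s.π.app (Opposite.op G) y).2
      refine ⟨memMap B x, hsub fun U hU => ?_, x, rfl⟩
      have hw := ConcreteCategory.congr_hom
        (s.w (homOfLE (Finset.singleton_subset_iff.2 hU)).op) y
      have h1 : g U = (s.π.app (Opposite.op G) y).1 ⟨U, hU⟩ :=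
        (congrFun (congrArg Subtype.val hw) ⟨U, Finset.mem_singleton_self U⟩).symm
      have h2 : memMap B x U = g U := by rw [h1]; exact congrFun hx ⟨U, hU⟩
      rw [h2]; exact (hW U hU).2
    choose lift hlift using key
    refine
      { lift := fun s => TopCat.ofHom ⟨lift s, ?_⟩
        fac := fun s j => ?_
        uniq := fun s m hm => ?_ }
    · rw [hemb.continuous_iff]
      refine continuous_pi fun U => ?_
      simp only [Function.comp_apply, hlift]
      exact ((continuous_apply _).comp continuous_subtype_val).comp (s.π.app _).hom.continuous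
    · ext y
      apply Subtype.ext
      funext U
      have hw := ConcreteCategory.congr_hom
        (s.w (homOfLE (Finset.singleton_subset_iff.2 U.2)).op) y
      exact (hlift s y U.1).trans (congrFun (congrArg Subtype.val hw) ⟨U.1, Finset.mem_singleton_self U.1⟩).symm
    · ext y
      refine hemb.injective (funext fun U => ?_)
      have := congrFun (congrArg Subtype.val (ConcreteCategory.congr_hom (hm (Opposite.op {U})) y))
        ⟨U, Finset.mem_singleton_self U⟩
      exact this.trans (hlift s y U).symm
  · haveI := t0Space_prop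
    have h1 : Finite (F.obj j) :=
      inferInstanceAs (Finite (range fun (x : X) (U : j.unop) => x ∈ U.1.1))
    have h2 : T0Space (F.obj j) :=
      inferInstanceAs (T0Space (range fun (x : X) (U : j.unop) => x ∈ U.1.1))
    exact ⟨h1, h2, (spectralSpace_of_finite (X := F.obj j)).toQuasiSober⟩

end Groth.Agent.SpecSp
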