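import Groth.Agent.SpecSp.Constr

/-! Generalization-closed subsets of spectral spaces. -/

set_option autoImplicit false
universe u
open Set Filter Topology TopologicalSpace

namespace Groth.Agent.SpecSp

variable {X : Type u} [TopologicalSpace X] [SpectralSpace X]

theorem exists_compactOpen_of_compact {E : Set X} (hE : IsCompact E) {x : X}
    (hx : ∀ e ∈ E, ¬ x ⤳ e) : ∃ U : Set X, IsOpen U ∧ IsCompact U ∧ E ⊆ U ∧ x ∉ U := by
  have h : ∀ e ∈ E, ∃ U : Set X, IsOpen U ∧ IsCompact U ∧ e ∈ U ∧ x ∉ U := fun e he => by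
    by_contra hcon
    push Not at hcon
    exact hx e he (specializes_of_forall_compactOpen hcon)
  refine hE.induction_on ⟨∅, isOpen_empty, isCompact_empty, subset_rfl, id⟩
    (fun s t hst ⟨U, h1, h2, h3, h4⟩ => ⟨U, h1, h2, hst.trans h3, h4⟩)
    (fun s t ⟨U, h1, h2, h3, h4⟩ ⟨V, g1, g2, g3, g4⟩ =>
      ⟨U ∪ V, h1.union g1, h2.union g2, union_subset_union h3 g3, fun h => h.elim h4 g4⟩)
    fun e he => ?_
  obtain ⟨U, h1, h2, h3, h4⟩ := h e he
  exact ⟨U, mem_nhdsWithin_of_mem_nhds (h1.mem_nhds h3), U, h1, h2, subset_rfl, h4⟩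

theorem generalization_eq_sInter {E : Set X} (hE : IsCompact E) :
    {x | ∃ e ∈ E, x ⤳ e} = ⋂₀ {U : Set X | (IsOpen U ∧ IsCompact U) ∧ E ⊆ U} := by
  refine Subset.antisymm (fun x ⟨e, he, hxe⟩ U hU => hxe.mem_open hU.1.1 (hU.2 he)) fun x hx => ?_
  by_contra hcon
  have hcon' : ∀ e ∈ E, ¬ x ⤳ e := fun e he h => hcon ⟨e, he, h⟩
  obtain ⟨U, h1, h2, h3, h4⟩ := exists_compactOpen_of_compact hE hcon'
  exact h4 (hx U ⟨⟨h1, h2⟩, h3⟩)

theorem isClosed_cons_generalization {E : Set X} (hE : IsCompact E) :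
    IsClosed[constructibleTopology X] {x : X | ∃ e ∈ E, x ⤳ e} := by
  rw [generalization_eq_sInter hE, sInter_eq_iInter]
  exact @isClosed_iInter X _ (constructibleTopology X) _ fun U => (isClopen_cons U.2.1.1 U.2.1.2).1

theorem generalization_tfae (W : Set X) :
    List.TFAE [
      (∃ S : Set (Set X), (∀ s ∈ S, Topology.IsConstructible s) ∧ W = ⋂₀ S) ∧ StableUnderGeneralization W,
      IsCompact W ∧ StableUnderGeneralization W,
      ∃ E : Set X, IsCompact E ∧ W = {x | ∃ e ∈ E, x ⤳ e},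
      ∃ S : Set (Set X), (∀ s ∈ S, IsOpen s ∧ IsCompact s) ∧ W = ⋂₀ S,
      ∃ (I : Type u) (_ : Nonempty I) (U : I → Set X),
        (∀ i, IsOpen (U i) ∧ IsCompact (U i)) ∧ W = ⋂ i, U i ∧ ∀ i j, ∃ k, U k ⊆ U i ∩ U j] := by
  tfae_have 1 → 2 := fun ⟨⟨S, hS, hW⟩, hg⟩ => by
    refine ⟨?_, hg⟩
    rw [hW, sInter_eq_iInter]
    exact isCompact_of_isClosed_cons
      (@isClosed_iInter X _ (constructibleTopology X) _ fun s => (isClopen_cons_of_isConstructible (hS s.1 s.2)).1)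
  tfae_have 2 → 3 := fun ⟨hc, hg⟩ =>
    ⟨W, hc, Subset.antisymm (fun x hx => ⟨x, hx, specializes_rfl⟩) fun x ⟨e, he, hxe⟩ => hg hxe he⟩
  tfae_have 3 → 4 := fun ⟨E, hE, hW⟩ => ⟨_, fun s hs => hs.1, hW.trans (generalization_eq_sInter hE)⟩
  tfae_have 4 → 5 := fun ⟨S, hS, hW⟩ => by
    classical
    refine ⟨Finset S, ⟨∅⟩, fun t => ⋂ s ∈ t, (s : Set X), fun t => ?_, ?_, fun i j => ⟨i ∪ j, ?_⟩⟩
    · induction t using Finset.induction with
      | empty => simp [isCompact_univ]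
      | insert a t _ ih =>
        simp only [Finset.set_biInter_insert]
        exact ⟨(hS a.1 a.2).1.inter ih.1, (hS a.1 a.2).2.inter_of_isOpen ih.2 (hS a.1 a.2).1 ih.1⟩
    · rw [hW]
      exact Subset.antisymm (fun x hx => mem_iInter.2 fun t => mem_iInter₂.2 fun s _ => hx s.1 s.2)
        fun x hx s hs => mem_iInter₂.1 (mem_iInter.1 hx {⟨s, hs⟩}) _ (Finset.mem_singleton_self _)
    · exact fun x hx => ⟨mem_iInter₂.2 fun s hs => mem_iInter₂.1 hx s (Finset.mem_union_left _ hs),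
        mem_iInter₂.2 fun s hs => mem_iInter₂.1 hx s (Finset.mem_union_right _ hs)⟩
  tfae_have 5 → 1 := fun ⟨I, _, U, hU, hW, _⟩ => by
    refine ⟨⟨range U, ?_, by rw [hW, sInter_range]⟩, ?_⟩
    · rintro _ ⟨i, rfl⟩
      exact (hU i).2.isConstructible (hU i).1
    · rw [hW]
      intro x y hxy hx
      exact mem_iInter.2 fun i => hxy.mem_open (hU i).1 (mem_iInter.1 hx i)
  tfae_finish

end Groth.Agent.SpecSp
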