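import Groth.Agent.SpecSp.Constr

/-! Spectrality from a finer compact topology. -/

set_option autoImplicit false
universe u v
open Set Filter Topology TopologicalSpace

namespace Groth.Agent.SpecSp

variable {X : Type u}

theorem spectralSpace_of_compact_finer (τ : TopologicalSpace X) [tX : TopologicalSpace X] [T0Space X]
    (hle : τ ≤ tX)
    (hc : @CompactSpace X τ) {B : Set (Set X)} (hB : IsTopologicalBasis B)
    (hcl : ∀ U ∈ B, IsClosed[τ] U) : SpectralSpace X := by
  have hcpt : ∀ C : Set X, IsClosed[τ] C → IsCompact C := fun C hC => by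
    have h := @IsCompact.image X X τ tX C id (@IsClosed.isCompact X τ _ hc hC) (continuous_id_of_le hle)
    simpa using h
  have hcl' : ∀ C : Set X, IsClosed C → IsClosed[τ] C := fun C hC =>
    @IsClosed.mk X τ C (hle _ hC.isOpen_compl)
  have : CompactSpace X := ⟨hcpt univ (hcl' univ isClosed_univ)⟩
  have : PrespectralSpace X := .of_isTopologicalBasis hB fun U hU => hcpt U (hcl U hU)
  have hB' : IsTopologicalBasis (range fun U : B => U.1) := by rwa [Subtype.range_coe]
  have : QuasiSeparatedSpace X := .of_isTopologicalBasis hB' fun U V =>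
    hcpt _ (@IsClosed.inter X _ _ τ (hcl U.1 U.2) (hcl V.1 V.2))
  have : QuasiSober X := by
    refine ⟨fun {Z} hZ hZc => ?_⟩
    have hsub : ∀ F : Finset {U // U ∈ B ∧ (U ∩ Z).Nonempty}, (Z ∩ ⋂ U ∈ F, U.1).Nonempty := by
      classical
      intro F
      obtain ⟨z, hzZ, hz⟩ := isIrreducible_iff_sInter.1 hZ (F.image Subtype.val)
        (fun u hu => by
          obtain ⟨U, -, rfl⟩ := Finset.mem_image.1 hu
          exact hB.isOpen U.2.1)
        (fun u hu => by
          obtain ⟨U, -, rfl⟩ := Finset.mem_image.1 hu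
          exact inter_comm U.1 Z ▸ U.2.2)
      refine ⟨z, hzZ, mem_iInter₂.2 fun U hU => ?_⟩
      exact hz _ (Finset.mem_coe.2 (Finset.mem_image_of_mem _ hU))
    obtain ⟨η, hηZ, hη⟩ := @IsCompact.inter_iInter_nonempty X τ Z _
      (@IsClosed.isCompact X τ _ hc (hcl' Z hZc))
      (fun U : {U // U ∈ B ∧ (U ∩ Z).Nonempty} => U.1) (fun U => hcl U.1 U.2.1) hsub
    rw [mem_iInter] at hη
    refine ⟨η, isGenericPoint_iff_specializes.2 fun y => ⟨fun h => h.mem_closed hZc hηZ, fun hy => ?_⟩⟩
    rw [specializes_iff_forall_open]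
    intro O hO hyO
    obtain ⟨U, hU, hyU, hUO⟩ := hB.exists_subset_of_mem_open hyO hO
    exact hUO (hη ⟨U, hU, y, hyU, hy⟩)
  exact { }

/-- If moreover the basic opens are clopen for the finer compact topology, then that topology
has the same closed sets as the constructible topology. -/
theorem isClosed_finer_iff_cons (τ : TopologicalSpace X) [tX : TopologicalSpace X] [SpectralSpace X]
    (hle : τ ≤ tX)
    (hc : @CompactSpace X τ) {B : Set (Set X)} (hB : IsTopologicalBasis B)
    (hcl : ∀ U ∈ B, IsClosed[τ] U) (hcB : ∀ U ∈ B, IsCompact U) {C : Set X} :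
    IsClosed[τ] C ↔ IsClosed[constructibleTopology X] C := by
  have hco : ∀ W : Set X, IsOpen W → IsCompact W → IsClosed[τ] W := fun W hWo hWc => by
    obtain ⟨s, hs, rfl⟩ := (isCompact_open_iff_eq_finite_iUnion_of_isTopologicalBasis
      (fun U : B => U.1) (by rwa [Subtype.range_coe]) (fun U => hcB U.1 U.2) W).1 ⟨hWc, hWo⟩
    exact @Set.Finite.isClosed_biUnion X B τ _ _ hs fun U _ => hcl U.1 U.2
  have hcont : @Continuous X X τ (constructibleTopology X) id := by
    refine continuous_id_of_le (le_generateFrom ?_)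
    rintro s (⟨ho, _⟩ | ⟨hsc, hscc⟩)
    · exact hle s ho
    · have := hco sᶜ hsc.isOpen_compl hscc
      exact (@isClosed_compl_iff X τ s).1 this
  refine ⟨fun h => ?_, fun h => ?_⟩
  · have := @IsCompact.image X X τ (constructibleTopology X) C id (@IsClosed.isCompact X τ _ hc h) hcont
    rw [image_id] at this
    exact @IsCompact.isClosed X (constructibleTopology X) t2_cons _ this
  · exact @IsClosed.preimage X X τ (constructibleTopology X) id hcont C h

theorem spectralSpace_of_finite [TopologicalSpace X] [T0Space X] [Finite X] : SpectralSpace X :=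
  spectralSpace_of_compact_finer ⊥ bot_le (@Finite.compactSpace X ⊥ _) isTopologicalBasis_opens
    fun U _ => @IsClosed.mk X ⊥ U trivial

theorem isSpectralMap_of_finite [TopologicalSpace X] [Finite X] {Y : Type v} [TopologicalSpace Y] {f : X → Y}
    (hf : Continuous f) : IsSpectralMap f :=
  ⟨hf, fun _ _ _ => (Set.toFinite _).isCompact⟩

theorem spectralSpace_of_homeomorph [TopologicalSpace X] {Y : Type v} [TopologicalSpace Y] [SpectralSpace Y]
    (h : X ≃ₜ Y) : SpectralSpace X :=
  have : CompactSpace X := h.symm.compactSpace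
  h.isOpenEmbedding.spectralSpace

end Groth.Agent.SpecSp
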